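import Groth.Agent.Misc13.HodgeDim
import Groth.Agent.Misc13.NumTriv.Uniform

/-!
# Numerical triviality from finitely many ample twists

If `H ⊗ L^m` and `H ⊗ L^{-m}` are ample for one `m` exceeding the degree `H^n` of an integral proper
scheme of dimension `n`, then `L` is numerically trivial.
-/

set_option autoImplicit false
set_option linter.style.haveILetI false

universe u

open CategoryTheory Limits AlgebraicGeometry TopologicalSpace

namespace Groth.Misc13.NumTriv.TauOpen

open Groth.Inter Groth.PicAux

variable (k : Type u) [Field k] {X : Scheme.{u}} [X.Over (Spec (CommRingCat.of k))]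
  [IsProper (X ↘ Spec (CommRingCat.of k))]

/-- The difference by an inverse changes the sign, in any length. -/
theorem delta_inverse {L L' : X.Modules} (hL : PicF.IsInvertible L) (hLL' : ClSub.IsInverseOf L L')
    {l : List X.Modules} (hl : ∀ M ∈ l, PicF.IsInvertible M) {F : X.Modules} (hF : Coh.IsCoh F)
    (hd : topologicalKrullDim (CohB1.support F) ≤ (l.length + 1 : ℕ)) :
    delta k (L' :: l) F = - delta k (L :: l) F := by
  have h := delta_tensor k hL (PicAux.isInvertible_of_isInverseOf hL hLL') hl hF hd
  rw [delta_congr_list k (List.Forall₂.cons hLL'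
      (List.forall₂_same.2 fun _ _ => ⟨Iso.refl _⟩)) F, delta_cons,
    delta_congr k l (tensor_one F), sub_self] at h
  omega

/-- An integral proper scheme with two ample twists `H ⊗ L^{±m}`, `m > H^n`, has `L` of degree zero
on its curves. -/
theorem curveZero_of_ample_twists [IsIntegral X] {n : ℕ}
    (hn : topologicalKrullDim X = (n : WithBot ℕ∞)) {H B L L' : X.Modules} (hH : CohB1.IsAmple H)
    (hHB : ClSub.IsInverseOf H B) (hL : PicF.IsInvertible L) (hLL' : ClSub.IsInverseOf L L') (m : ℕ)
    (hm : delta k (List.replicate n B) (Coh.structureModule X) < m)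
    (hp : CohB1.IsAmple (CohB1.tensorMod H (CohB1.tensorPow L m)))
    (hq : CohB1.IsAmple (CohB1.tensorMod H (CohB1.tensorPow L' m))) :
    HodgeDim.CurveZero k L Set.univ := by
  have hN : IsNoetherian X := Inter.isNoetherian k
  have hB : IsAmpleInv B := ⟨H, hH, hHB⟩
  have hBi := hB.isInvertible
  have hL' := PicAux.isInvertible_of_isInverseOf hL hLL'
  have hO : Coh.IsCoh (Coh.structureModule X) :=
    isCoh_of_isInvertible (EulerDeg.isInvertible_structureModule X)
  have hs : topologicalKrullDim (CohB1.support (Coh.structureModule X)) = (n : WithBot ℕ∞) := by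
    rw [HodgeDim.support_structure, HodgeProper.dim_univ, hn]
  rcases Nat.eq_zero_or_pos n with rfl | hn0
  · intro z _ hz
    have h := LocCohTransform.topologicalKrullDim_mono (Set.subset_univ (closure ({z} : Set X)))
    rw [hz, HodgeProper.dim_univ, hn] at h
    exact absurd (WithBot.coe_le_coe.1 h) (by simp)
  obtain ⟨r, rfl⟩ : ∃ r, n = r + 1 := ⟨n - 1, by omega⟩
  -- inverses of the ample twists
  have hC : ∀ {P P' : X.Modules}, ClSub.IsInverseOf P P' →
      CohB1.IsAmple (CohB1.tensorMod H (CohB1.tensorPow P m)) →
      IsAmpleInv (CohB1.tensorMod B (CohB1.tensorPow P' m)) := fun h ha =>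
    ⟨_, ha, PicAux.isInverseOf_tensorMod hHB (PicAux.isInverseOf_tensorPow h m)⟩
  have hrep : ∀ j, ∀ N ∈ List.replicate j B, PicF.IsInvertible N := fun j N hN =>
    (List.eq_of_mem_replicate hN).symm ▸ hBi
  have hsr : topologicalKrullDim (CohB1.support (Coh.structureModule X)) ≤
      ((List.replicate r B).length + 1 : ℕ) := by simp [hs]
  -- expansion of the difference by a twist
  have hexp : ∀ {P : X.Modules}, PicF.IsInvertible P → ∀ {l : List X.Modules},
      (∀ N ∈ l, PicF.IsInvertible N) → l.length + 1 = r + 1 →
      delta k (CohB1.tensorMod B (CohB1.tensorPow P m) :: l) (Coh.structureModule X) =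
        delta k (B :: l) (Coh.structureModule X) + m * delta k (P :: l) (Coh.structureModule X) := by
    intro P hP l hl hlen
    have hd : topologicalKrullDim (CohB1.support (Coh.structureModule X)) ≤ (l.length + 1 : ℕ) := by
      simp [hs, hlen]
    rw [delta_tensor k hBi (isInvertible_tensorPow hP m) hl hO hd, delta_pow_cons k hP hl hO hd]
  have hinv := delta_inverse k hL hLL' (hrep r) hO hsr
  have hpos : ∀ {C : X.Modules}, IsAmpleInv C →
      0 < delta k (C :: List.replicate r B) (Coh.structureModule X) := fun hC => by
    refine delta_pos k _ (fun N hN => ?_) _ hO (by simp [hs])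
    rcases List.mem_cons.1 hN with rfl | hN
    exacts [hC, (List.eq_of_mem_replicate hN).symm ▸ hB]
  have h1 := hpos (hC hLL' hp)
  have h2 := hpos (hC (PicAux.isInverseOf_symm hLL') hq)
  rw [hexp hL' (hrep r) (by simp)] at h1
  rw [hexp hL (hrep r) (by simp)] at h2
  rw [hinv] at h1
  rw [List.replicate_succ] at hm
  have ha : delta k (L :: List.replicate r B) (Coh.structureModule X) = 0 := by
    by_contra hne
    rcases lt_or_gt_of_ne hne with hlt | hgt
    · nlinarith [hlt, h2, hm, Int.natCast_nonneg m]
    · nlinarith [hgt, h1, hm, Int.natCast_nonneg m]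
  rcases Nat.eq_zero_or_pos r with rfl | hr
  · intro z _ hz
    have hη : closure ({genericPoint X} : Set X) = Set.univ := genericPoint_spec X
    have hηd : topologicalKrullDim (closure ({genericPoint X} : Set X)) = ((1 : ℕ) : WithBot ℕ∞) := by
      rw [hη, HodgeProper.dim_univ, hn]
    have hzη : z = genericPoint X := Inter.eq_of_dim_closure (hη ▸ Set.mem_univ z) hηd.le hz.ge
    obtain ⟨c, hc, hce⟩ := HodgeProper.delta_eq_length_mul k (l := [L]) (by simpa using hL) hO
      (y := genericPoint X) (by simpa using hηd) (hη ▸ Set.subset_univ _)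
      (by rw [HodgeDim.support_structure]; trivial)
    rw [show L :: List.replicate 0 B = [L] from rfl, hce] at ha
    rw [hzη]
    simpa using (mul_eq_zero.1 ha).resolve_left (by exact_mod_cast hc.ne')
  obtain ⟨e, rfl⟩ : ∃ e, r = e + 1 := ⟨r - 1, by omega⟩
  refine HodgeDim.main k hn hB hL ha ?_
  let C := CohB1.tensorMod B (CohB1.tensorPow L' m)
  have hCB := hC hLL' hp
  have hl1 : ∀ P : X.Modules, PicF.IsInvertible P → ∀ N ∈ P :: List.replicate e B, PicF.IsInvertible N :=
    fun P hP N hN => by
      rcases List.mem_cons.1 hN with rfl | hN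
      exacts [hP, hrep e N hN]
  have h3 : 0 < delta k (C :: C :: List.replicate e B) (Coh.structureModule X) := by
    refine delta_pos k _ (fun N hN => ?_) _ hO (by simp [hs])
    rcases List.mem_cons.1 hN with rfl | hN
    · exact hCB
    rcases List.mem_cons.1 hN with rfl | hN
    exacts [hCB, (List.eq_of_mem_replicate hN).symm ▸ hB]
  have hsw : ∀ P Q : X.Modules, delta k (P :: Q :: List.replicate e B) (Coh.structureModule X) =
      delta k (Q :: P :: List.replicate e B) (Coh.structureModule X) := fun P Q =>
    delta_perm k (List.Perm.swap _ _ _) _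
  have hd2 : topologicalKrullDim (CohB1.support (Coh.structureModule X)) ≤
      ((B :: List.replicate e B).length + 1 : ℕ) := by simp [hs]
  have hinv2 : ∀ P : X.Modules, PicF.IsInvertible P →
      delta k (L' :: P :: List.replicate e B) (Coh.structureModule X) =
        - delta k (L :: P :: List.replicate e B) (Coh.structureModule X) := fun P hP =>
    delta_inverse k hL hLL' (hl1 P hP) hO (by simp [hs])
  rw [hexp hL' (hl1 C hCB.isInvertible) (by simp), hsw B C, hsw L' C,
    hexp hL' (hl1 B hBi) (by simp), hexp hL' (hl1 L' hL') (by simp), hsw B L', hinv2 B hBi,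
    hinv2 L' hL', hsw L L', hinv2 L hL, show L :: B :: List.replicate e B = L :: List.replicate (e + 1) B from rfl,
    ha, show B :: B :: List.replicate e B = B :: List.replicate (e + 1) B from rfl] at h3
  by_contra hneg
  push Not at hneg
  nlinarith [hneg, h3, hm, mul_self_nonneg ((m : ℤ) - 1), Int.natCast_nonneg m]

omit [IsProper (X ↘ Spec (CommRingCat.of k))] in
/-- The points of maximal dimension of a closed set are finitely many. -/
theorem finite_top_points [IsNoetherian X] {S : Set X} (hS : IsClosed S) (n : ℕ)
    (hd : topologicalKrullDim S ≤ (n : WithBot ℕ∞)) :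
    {x : X | x ∈ S ∧ topologicalKrullDim (closure ({x} : Set X)) = (n : WithBot ℕ∞)}.Finite :=
  (DivisorLength.finite_maximal_points hS).subset fun x hx => ⟨hx.1, fun w hw hwx =>
    (Inter.eq_of_dim_closure hwx.mem_closure ((LocCohTransform.topologicalKrullDim_mono
      (closure_minimal (Set.singleton_subset_iff.2 hw) hS)).trans hd) hx.2.ge).symm⟩

/-- A component of top dimension has at most the degree of the whole scheme. -/
theorem delta_component_le {n : ℕ} (hn : topologicalKrullDim X ≤ (n : WithBot ℕ∞)) {B : X.Modules}
    (hB : IsAmpleInv B) {ξ : X} (hξ : topologicalKrullDim (closure ({ξ} : Set X)) = (n : WithBot ℕ∞)) :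
    delta k (List.replicate n B) (Cyc.closureStructureSheaf ξ) ≤
      delta k (List.replicate n B) (Coh.structureModule X) := by
  have hN : IsNoetherian X := Inter.isNoetherian k
  have : Nonempty X := ⟨ξ⟩
  have hO : Coh.IsCoh (Coh.structureModule X) :=
    isCoh_of_isInvertible (EulerDeg.isInvertible_structureModule X)
  have hsd : topologicalKrullDim (CohB1.support (Coh.structureModule X)) ≤ (n : WithBot ℕ∞) := by
    rw [HodgeDim.support_structure, HodgeProper.dim_univ]; exact hn
  have hfin := finite_top_points (X := X) (CohTwo.isClosed_support _ hO) n hsd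
  have hl : ∀ N ∈ List.replicate n B, IsAmpleInv N := fun N hN => (List.eq_of_mem_replicate hN).symm ▸ hB
  obtain ⟨A, hA, hAB⟩ := hB
  rw [delta_eq_sum_length k (l := List.replicate n B) (fun N hN => (hl N hN).isInvertible) hO
    (by simpa using hsd) hfin.toFinset (fun x => by simp)]
  have hξs : ξ ∈ hfin.toFinset := by
    rw [Set.Finite.mem_toFinset]
    exact ⟨by rw [HodgeDim.support_structure]; trivial, hξ⟩
  have hterm : ∀ x ∈ hfin.toFinset, 0 ≤ delta k (List.replicate n B) (Cyc.closureStructureSheaf x) :=
    fun x hx => (delta_pos_of_isAmple k hA hAB x n (hfin.mem_toFinset.1 hx).2).le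
  refine le_trans ?_ (Finset.single_le_sum
    (fun x hx => mul_nonneg (Int.natCast_nonneg _) (hterm x hx)) hξs)
  refine le_mul_of_one_le_left (hterm ξ hξs) ?_
  have hpos : 0 < (Module.length (X.presheaf.stalk ξ) ((Coh.structureModule X).presheaf.stalk ξ)).toNat := by
    rw [Nat.pos_iff_ne_zero, ne_eq, ENat.toNat_eq_zero, not_or]
    have hmem : ξ ∈ CohB1.support (Coh.structureModule X) := by rw [HodgeDim.support_structure]; trivial
    refine ⟨fun h => hmem (Module.length_eq_zero_iff.1 h),
      KTheory.Devissage.length_stalk_ne_top hO ξ fun z hz hzx => (Inter.eq_of_dim_closure hzx.mem_closure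
        ((LocCohTransform.topologicalKrullDim_mono (closure_minimal (Set.singleton_subset_iff.2 hz)
          (CohTwo.isClosed_support _ hO))).trans hsd) hξ.ge).symm⟩
  exact_mod_cast hpos

end Groth.Misc13.NumTriv.TauOpen
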