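import Groth.Agent.Misc13.NumTriv.TauOpen.Criterion
import Groth.Agent.Misc13.NumTriv.FieldExt
import Groth.Agent.GenStrata.Proper
import Groth.Agent.Inter.EulerFamily
import Groth.Agent.FibreDim.OpenFibre
import Groth.Agent.FibreDim.Equidim
import Groth.Agent.CohBase.InvNearFibre
import Groth.Agent.S4367

/-!
# Numerical triviality on the fibres of a projective family is detected by finitely many twists
-/

set_option autoImplicit false
set_option linter.style.haveILetI false

universe u

open CategoryTheory Limits AlgebraicGeometry TopologicalSpace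

namespace Groth.Misc13.NumTriv.TauOpen

open Groth.Inter Groth.PicAux

/-- The fibre as a scheme over the residue field. -/
noncomputable local instance fibOver {X S : Scheme.{u}} (f : X ⟶ S) (s : S) :
    (f.fiber s).Over (Spec (CommRingCat.of (S.residueField s))) := ⟨f.fiberToSpecResidueField s⟩

local instance isProper_fibOver {X S : Scheme.{u}} (f : X ⟶ S) [IsProper f] (s : S) :
    IsProper (f.fiber s ↘ Spec (CommRingCat.of (S.residueField s))) :=
  MorphismProperty.pullback_snd (P := @IsProper) f _ ‹_›

/-- The ideal of a point closure gives a scheme over the field. -/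
noncomputable local instance ptOver {k : Type u} [Field k] {X : Scheme.{u}}
    [X.Over (Spec (CommRingCat.of k))] (z : X) :
    (IntMult.ptIdeal z).subscheme.Over (Spec (CommRingCat.of k)) :=
  ⟨(IntMult.ptIdeal z).subschemeι ≫ (X ↘ Spec (CommRingCat.of k))⟩

local instance isProper_ptOver {k : Type u} [Field k] {X : Scheme.{u}}
    [X.Over (Spec (CommRingCat.of k))] [IsProper (X ↘ Spec (CommRingCat.of k))] (z : X) :
    IsProper ((IntMult.ptIdeal z).subscheme ↘ Spec (CommRingCat.of k)) :=
  inferInstanceAs (IsProper ((IntMult.ptIdeal z).subschemeι ≫ (X ↘ Spec (CommRingCat.of k))))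

theorem nt_iso (k : Type u) [Field k] {X : Scheme.{u}} [X.Over (Spec (CommRingCat.of k))]
    {L L' : X.Modules} (e : L ≅ L') (h : NT k L) : NT k L' :=
  ⟨PicAux.isInvertible_of_iso h.1 e, fun F hF hd => by
    rw [← delta_congr_list k (List.Forall₂.cons ⟨e⟩ .nil) F]; exact h.2 F hF hd⟩

theorem range_ptIdeal {X : Scheme.{u}} (z : X) :
    Set.range (IntMult.ptIdeal z).subschemeι = closure {z} := by
  rw [Scheme.IdealSheafData.range_subschemeι, IntMult.ptIdeal,
    Scheme.IdealSheafData.coe_support_vanishingIdeal]
  rfl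

/-- Triviality on all curves through their reduced models. -/
theorem nt_of_curves (k : Type u) [Field k] {X : Scheme.{u}} [X.Over (Spec (CommRingCat.of k))]
    [IsProper (X ↘ Spec (CommRingCat.of k))] {L : X.Modules} (hL : PicF.IsInvertible L)
    (h : ∀ z : X, topologicalKrullDim (closure ({z} : Set X)) = ((1 : ℕ) : WithBot ℕ∞) →
      NT k ((Scheme.Modules.pullback (IntMult.ptIdeal z).subschemeι).obj L)) : NT k L := by
  refine ⟨hL, fun F hF hd => HodgeDim.delta_eq_zero_of_curveZero k hL (fun z _ hz => ?_) hF (by simpa using hd)⟩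
  have hN : IsNoetherian (IntMult.ptIdeal z).subscheme := Inter.isNoetherian k
  show delta k [L] ((Coh.push (IntMult.ptIdeal z).subschemeι).obj (Coh.structureModule _)) = 0
  rw [delta_push k (IntMult.ptIdeal z).subschemeι rfl [L] (by simpa using hL)]
  refine (h z hz).2 _ (isCoh_of_isInvertible (EulerDeg.isInvertible_structureModule _)) ?_
  refine (topologicalKrullDim_subspace_le _ _).trans ?_
  rw [Inter.dim_ptIdeal_subscheme, hz]
  simp

section Range

variable {Y S : Scheme.{u}} (f : Y ⟶ S) [IsProper f] [IsNoetherian S]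

/-- The Euler characteristics of an invertible module on the fibres take finitely many values. -/
theorem finite_range_fibreEuler {A : Y.Modules} (hA : PicF.IsInvertible A) :
    (Set.range (fibreEuler f A)).Finite := by
  have hYN : IsLocallyNoetherian Y := LocallyOfFiniteType.isLocallyNoetherian f
  have : LocallyOfFinitePresentation f :=
    LocallyOfFinitePresentation.iff_locallyOfFiniteType.mpr inferInstance
  obtain ⟨ι, _, T, e, hT, -, hcov, hpf⟩ := GenStrata.exists_proper_flat_partition f
    fun s => MorphismProperty.pullback_snd (P := @IsProper) f _ ‹_›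
  have hfin : ∀ i, (Set.range (fibreEuler (pullback.snd f (e i))
      ((Scheme.Modules.pullback (pullback.fst f (e i))).obj A))).Finite := fun i => by
    have := (hT i).1
    have := (hT i).2.1
    have := (hpf i).1
    have := (hpf i).2
    have : IsLocallyNoetherian (T i) := LocallyOfFiniteType.isLocallyNoetherian (e i)
    have hi := PicAux.isInvertible_pullback (pullback.fst f (e i)) hA
    have hn : IsLocallyNoetherian (pullback f (e i)) :=
      LocallyOfFiniteType.isLocallyNoetherian (pullback.snd f (e i))
    exact (isLocallyConstant_euler_fiber _ _ (isCoh_of_isInvertible hi)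
      (CohBase.isFlatOver_of_isInvertible _ hi)).range_finite
  refine (Set.finite_iUnion hfin).subset ?_
  rintro _ ⟨s, rfl⟩
  obtain ⟨i, t, rfl⟩ := Set.mem_iUnion.1 (hcov.ge (Set.mem_univ s))
  refine Set.mem_iUnion.2 ⟨i, t, ?_⟩
  let π := pullback.snd f (e i)
  have := (isCoh_of_isInvertible hA).1
  have hsq : IsPullback (π.fiberι t ≫ pullback.fst f (e i))
      (π.fiber t ↘ Spec (CommRingCat.of ((T i).residueField t))) f
      ((T i).fromSpecResidueField t ≫ e i) :=
    (IsPullback.of_hasPullback π ((T i).fromSpecResidueField t)).paste_horiz (IsPullback.of_hasPullback f (e i))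
  have h := Inter.euler_point_eq f A ((T i).residueField t) _ _ hsq
  rw [Scheme.Hom.comp_apply, Scheme.fromSpecResidueField_apply] at h
  refine Eq.trans (EulerDeg.euler_congr ((T i).residueField t) ?_) h
  exact (Scheme.Modules.pullbackComp _ _).app A

/-- So do the iterated differences by one module. -/
theorem finite_range_delta {B : Y.Modules} (hB : PicF.IsInvertible B) : ∀ r j : ℕ,
    (Set.range fun s => delta (S.residueField s)
      (List.replicate r ((Scheme.Modules.pullback (f.fiberι s)).obj B))
      (CohB1.tensorPow ((Scheme.Modules.pullback (f.fiberι s)).obj B) j)).Finite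
  | 0, j => by
    refine (finite_range_fibreEuler f (A := CohB1.tensorPow B j) (isInvertible_tensorPow hB j)).subset ?_
    rintro _ ⟨s, rfl⟩
    exact ⟨s, EulerDeg.euler_congr (S.residueField s) (pullback_tensorPow (f.fiberι s) B j).some⟩
  | r + 1, j => by
    refine ((finite_range_delta hB r j).image2 (· - ·) (finite_range_delta hB r (j + 1))).subset ?_
    rintro _ ⟨s, rfl⟩
    refine ⟨_, ⟨s, rfl⟩, _, ⟨s, rfl⟩, ?_⟩
    simp only [List.replicate_succ, delta_cons]
    exact congrArg _ (delta_congr (S.residueField s) _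
      ⟨(PicAux.exists_braiding (CohB1.tensorPow ((Scheme.Modules.pullback (f.fiberι s)).obj B) j) _).choose⟩)

/-- The fibres away from a closed set missing the generic point are equidimensional. -/
theorem exists_equidim [IsIntegral Y] : ∃ (d : ℕ) (E : Set S), IsClosed E ∧ f (genericPoint Y) ∉ E ∧
    ∀ s ∉ E, topologicalKrullDim (f.fiber s) ≤ (d : WithBot ℕ∞) ∧
      ∀ T ∈ irreducibleComponents (f.fiber s : Type u), topologicalKrullDim T = (d : WithBot ℕ∞) := by
  obtain ⟨d, hd⟩ := FibreDim.fibreDimAt_ne_top f (genericPoint Y)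
  have hge : ∀ x : Y, (d : WithBot ℕ∞) ≤ FlatMor.fibreDimAt f x := fun x =>
    hd ▸ FibreDim.fibreDimAt_le_of_specializes f (genericPoint_specializes x)
  refine ⟨d, f '' {x | FlatMor.fibreDimAt f x ≤ (d : WithBot ℕ∞)}ᶜ,
    f.isClosedMap _ (FibreDim.isOpen_fibreDimAt_le f d).isClosed_compl, ?_, fun s hs => ?_⟩
  · rintro ⟨x, hx, hfx⟩
    have hgen : topologicalKrullDim (f.fiber (f (genericPoint Y))) ≤ (d : WithBot ℕ∞) := by
      rw [FibreDim.dim_fiber_eq_iSup_max]
      refine iSup₂_le fun z hz => ?_
      rw [← hz.2 (genericPoint Y) rfl (genericPoint_specializes z), hd]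
    refine hx ((Groth.SpectralTopology.localDim_le_dim _).trans ?_)
    rwa [← hfx] at hgen
  · have hle : ∀ x, f x = s → FlatMor.fibreDimAt f x ≤ (d : WithBot ℕ∞) := fun x hx => by
      by_contra hlt
      exact hs ⟨x, hlt, hx⟩
    refine ⟨?_, fun T hT => ?_⟩
    · rw [FibreDim.dim_fiber_eq_iSup_max]
      exact iSup₂_le fun z hz => hle z hz.1
    · obtain ⟨z, hz, hzT⟩ : topologicalKrullDim T ∈ FlatMor.fibreDimAt f ''
          {z | f z = s ∧ ∀ z', f z' = s → z' ⤳ z → z' = z} :=
        (FibreDim.component_dims_eq f s) ▸ ⟨T, hT, rfl⟩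
      rw [← hzT]
      exact le_antisymm (hle z hz.1) (hge z)

end Range

section Amp

variable {X S : Scheme.{u}} (f : X ⟶ S)

/-- The twists `H ⊗ L^{±m}`, `m ≤ M`, are ample on the fibre at `s`. -/
def FibreAmp (H L L' : X.Modules) (M : ℕ) (s : S) : Prop :=
  ∀ m ≤ M, CohB1.IsAmple ((Scheme.Modules.pullback (f.fiberι s)).obj (CohB1.tensorMod H (CohB1.tensorPow L m))) ∧
    CohB1.IsAmple ((Scheme.Modules.pullback (f.fiberι s)).obj (CohB1.tensorMod H (CohB1.tensorPow L' m)))

theorem FibreAmp.mono {H L L' : X.Modules} {M M' : ℕ} (h : M ≤ M') {s : S}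
    (hs : FibreAmp f H L L' M' s) : FibreAmp f H L L' M s := fun m hm => hs m (hm.trans h)

end Amp

/-- On an integral family finitely many twists detect numerical triviality off a proper closed set. -/
theorem exists_bound_integral {Y S : Scheme.{u}} [IsNoetherian S] (f : Y ⟶ S) [IsProper f] [IsIntegral Y]
    {H H' L L' : Y.Modules} (hHi : PicF.IsInvertible H) (hHH' : ClSub.IsInverseOf H H')
    (hL : PicF.IsInvertible L) (hLL' : ClSub.IsInverseOf L L') :
    ∃ (M : ℕ) (E : Set S), IsClosed E ∧ f (genericPoint Y) ∉ E ∧ ∀ s ∉ E, FibreAmp f H L L' M s →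
      NT (S.residueField s) ((Scheme.Modules.pullback (f.fiberι s)).obj L) := by
  obtain ⟨d, E, hE, hgen, hdim⟩ := exists_equidim f
  have hH' := PicAux.isInvertible_of_isInverseOf hHi hHH'
  obtain ⟨D, hD⟩ := (finite_range_delta f hH' d 0).bddAbove
  refine ⟨D.toNat + 1, E, hE, hgen, fun s hs ha => ?_⟩
  let k := S.residueField s
  let G := Scheme.Modules.pullback (f.fiberι s)
  have hN : IsNoetherian (f.fiber s) := Inter.isNoetherian k
  have hH0 : CohB1.IsAmple (G.obj H) := Ega2Proj.isAmple_of_iso
    (G.mapIso ((SecTwist.unitorR H))) (ha 0 (Nat.zero_le _)).1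
  have hB : IsAmpleInv (G.obj H') := ⟨_, hH0, PicAux.isInverseOf_pullback (f.fiberι s) hHH'⟩
  refine nt_of_curves k (PicAux.isInvertible_pullback _ hL) fun z hz => ?_
  have hT := irreducibleComponent_mem_irreducibleComponents z
  have hξ := hT.1.isGenericPoint_genericPoint (isClosed_of_mem_irreducibleComponents _ hT)
  set ξ := hT.1.genericPoint
  have hξd : topologicalKrullDim (closure ({ξ} : Set (f.fiber s))) = (d : WithBot ℕ∞) := by
    rw [hξ.def]; exact (hdim s hs).2 _ hT
  let ι := (IntMult.ptIdeal ξ).subschemeι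
  let W := (IntMult.ptIdeal ξ).subscheme
  have : IsIntegral W := CohTwo.isIntegral_closure_subscheme rfl
  have hWN : IsNoetherian W := Inter.isNoetherian k
  let GW := Scheme.Modules.pullback ι
  have hWd : topologicalKrullDim W = (d : WithBot ℕ∞) := by rw [Inter.dim_ptIdeal_subscheme, hξd]
  have hdeg : delta k (List.replicate d (GW.obj (G.obj H'))) (Coh.structureModule W) < ((D.toNat + 1 : ℕ) : ℤ) := by
    have h1 := delta_component_le k (hdim s hs).1 hB hξd
    have h2 : delta k (List.replicate d (G.obj H')) (Coh.structureModule (f.fiber s)) ≤ D := hD ⟨s, rfl⟩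
    rw [show Cyc.closureStructureSheaf ξ = (Coh.push ι).obj (Coh.structureModule W) from rfl,
      delta_push k ι rfl _ (fun N hN => (List.eq_of_mem_replicate hN).symm ▸ hB.isInvertible),
      List.map_replicate] at h1
    exact lt_of_le_of_lt (h1.trans h2) (by have := Int.self_le_toNat D; push_cast; omega)
  have htr : ∀ P : Y.Modules, CohB1.IsAmple (G.obj (CohB1.tensorMod H (CohB1.tensorPow P (D.toNat + 1)))) →
      CohB1.IsAmple (CohB1.tensorMod (GW.obj (G.obj H))
        (CohB1.tensorPow (GW.obj (G.obj P)) (D.toNat + 1))) := fun P hP => by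
    refine Ega2Proj.isAmple_of_iso ?_ (Chow.isAmple_pullback_of_isAffineHom ι hP)
    exact GW.mapIso ((exists_pullback_tensorMod (f.fiberι s) _ _).choose ≪≫
      PicGrp.tensorModIso (Iso.refl _) (pullback_tensorPow _ P _).some) ≪≫
      (exists_pullback_tensorMod ι _ _).choose ≪≫
      PicGrp.tensorModIso (Iso.refl _) (pullback_tensorPow _ _ _).some
  have hinv : ∀ {P P' : Y.Modules}, ClSub.IsInverseOf P P' →
      ClSub.IsInverseOf (GW.obj (G.obj P)) (GW.obj (G.obj P')) := fun h =>
    PicAux.isInverseOf_pullback ι (PicAux.isInverseOf_pullback (f.fiberι s) h)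
  have hcz := curveZero_of_ample_twists k hWd (Chow.isAmple_pullback_of_isAffineHom ι hH0) (hinv hHH')
    (PicAux.isInvertible_pullback ι (PicAux.isInvertible_pullback _ hL)) (hinv hLL') _ hdeg
    (htr L (ha _ le_rfl).1) (htr L' (ha _ le_rfl).2)
  have hnt : NT k (GW.obj (G.obj L)) :=
    ⟨PicAux.isInvertible_pullback ι (PicAux.isInvertible_pullback _ hL), fun F hF hd =>
      HodgeDim.delta_eq_zero_of_curveZero k (PicAux.isInvertible_pullback ι (PicAux.isInvertible_pullback _ hL))
        hcz hF (by simpa using hd)⟩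
  -- the curve lies in the component
  have hsub : Set.range (IntMult.ptIdeal z).subschemeι ⊆ Set.range ι := by
    rw [range_ptIdeal, range_ptIdeal, hξ.def]
    exact closure_minimal (Set.singleton_subset_iff.2 mem_irreducibleComponent)
      isClosed_irreducibleComponent
  have : IsIntegral (IntMult.ptIdeal z).subscheme := CohTwo.isIntegral_closure_subscheme rfl
  obtain ⟨l, hl⟩ := Groth.Agent.S4367.result (IntMult.ptIdeal z).subschemeι ι hsub
  refine nt_iso k ?_ (nt_pullback_proper k l ((reassoc_of% hl) _) hnt)
  exact (Scheme.Modules.pullbackComp l ι).app _ ≪≫ (Scheme.Modules.pullbackCongr hl).app _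

/-- A closed set is detected by boundedly many twists: every family of integral proper schemes over
residue fields mapping into it gets a numerically trivial module. -/
def Detected {X S : Scheme.{u}} (f : X ⟶ S) (H L L' : X.Modules) (Z : Set X) : Prop :=
  ∃ M : ℕ, ∀ s, FibreAmp f H L L' M s → ∀ (C : Scheme.{u}) [IsIntegral C]
    [C.Over (Spec (CommRingCat.of (S.residueField s)))]
    [IsProper (C ↘ Spec (CommRingCat.of (S.residueField s)))] (g : C ⟶ X),
    g ≫ f = (C ↘ Spec (CommRingCat.of (S.residueField s))) ≫ S.fromSpecResidueField s →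
      Set.range g ⊆ Z → NT (S.residueField s) ((Scheme.Modules.pullback g).obj L)

variable {X S : Scheme.{u}} [IsNoetherian S] (f : X ⟶ S) [IsProper f] {H H' L L' : X.Modules}

/-- All closed sets are detected. -/
theorem detected (hHi : PicF.IsInvertible H) (hHH' : ClSub.IsInverseOf H H') (hL : PicF.IsInvertible L)
    (hLL' : ClSub.IsInverseOf L L') (Z : Closeds X) : Detected f H L L' (Z : Set X) := by
  have : CompactSpace X := QuasiCompact.compactSpace_of_compactSpace f
  have : IsLocallyNoetherian X := LocallyOfFiniteType.isLocallyNoetherian f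
  have : IsNoetherian X := {}
  induction Z using WellFoundedLT.induction with
  | ind Z ih =>
    rcases Set.eq_empty_or_nonempty (Z : Set X) with h0 | hne
    · refine ⟨0, fun s _ C _ _ _ g _ hg => ?_⟩
      rw [h0] at hg
      exact (Set.notMem_empty _ (hg ⟨genericPoint C, rfl⟩)).elim
    by_cases hirr : IsPreirreducible (Z : Set X)
    · have hZ : IsIrreducible (Z : Set X) := ⟨hne, hirr⟩
      have hη := hZ.isGenericPoint_genericPoint Z.isClosed
      let η := hZ.genericPoint
      let ι := (IntMult.ptIdeal η).subschemeι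
      let Y := (IntMult.ptIdeal η).subscheme
      have : IsIntegral Y := CohTwo.isIntegral_closure_subscheme rfl
      have hrange : Set.range ι = (Z : Set X) := (range_ptIdeal η).trans hη.def
      let G := Scheme.Modules.pullback ι
      obtain ⟨M₁, E, hE, hgen, hnt⟩ := exists_bound_integral (ι ≫ f) (H := G.obj H) (L := G.obj L)
        (PicAux.isInvertible_pullback ι hHi) (PicAux.isInverseOf_pullback ι hHH')
        (PicAux.isInvertible_pullback ι hL) (PicAux.isInverseOf_pullback ι hLL')
      let Z' : Closeds X := ⟨(Z : Set X) ∩ f ⁻¹' E, Z.isClosed.inter (hE.preimage f.continuous)⟩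
      have hlt : Z' < Z := by
        refine lt_of_le_of_ne (fun x hx => hx.1) fun h => hgen ?_
        have : ι (genericPoint Y) ∈ (Z' : Set X) := by rw [h]; exact hrange.le ⟨_, rfl⟩
        exact this.2
      obtain ⟨M₂, hM₂⟩ := ih Z' hlt
      refine ⟨max M₁ M₂, fun s ha C _ _ _ g hg hgZ => ?_⟩
      by_cases hs : s ∈ E
      · refine hM₂ s (ha.mono f (le_max_right _ _)) C g hg ?_
        rintro _ ⟨c, rfl⟩
        refine ⟨hgZ ⟨c, rfl⟩, ?_⟩
        show f (g c) ∈ E
        rw [← Scheme.Hom.comp_apply, hg, Scheme.Hom.comp_apply, Scheme.fromSpecResidueField_apply]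
        exact hs
      have hamp : FibreAmp (ι ≫ f) (G.obj H) (G.obj L) (G.obj L') M₁ s := by
        intro m hm
        let φ : (ι ≫ f).fiber s ⟶ f.fiber s :=
          pullback.lift ((ι ≫ f).fiberι s ≫ ι) ((ι ≫ f).fiberToSpecResidueField s)
            (by rw [Category.assoc]; exact pullback.condition)
        have hφ : φ ≫ f.fiberι s = (ι ≫ f).fiberι s ≫ ι := pullback.lift_fst _ _ _
        have hsq : IsPullback φ ((ι ≫ f).fiberι s) (f.fiberι s) ι :=
          IsPullback.of_right
            (h₁₂ := f.fiberToSpecResidueField s) (h₂₂ := f) (v₁₃ := S.fromSpecResidueField s)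
            (by
              rw [show φ ≫ f.fiberToSpecResidueField s = (ι ≫ f).fiberToSpecResidueField s from
                pullback.lift_snd _ _ _]
              exact (IsPullback.of_hasPullback (ι ≫ f) (S.fromSpecResidueField s)).flip)
            hφ (IsPullback.of_hasPullback f (S.fromSpecResidueField s)).flip
        have : IsClosedImmersion φ := MorphismProperty.of_isPullback hsq.flip inferInstance
        have htr : ∀ P : X.Modules,
            CohB1.IsAmple ((Scheme.Modules.pullback (f.fiberι s)).obj (CohB1.tensorMod H (CohB1.tensorPow P m))) →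
            CohB1.IsAmple ((Scheme.Modules.pullback ((ι ≫ f).fiberι s)).obj
              (CohB1.tensorMod (G.obj H) (CohB1.tensorPow (G.obj P) m))) := fun P hP => by
          refine Ega2Proj.isAmple_of_iso ?_ (Chow.isAmple_pullback_of_isAffineHom φ hP)
          exact (Scheme.Modules.pullbackComp φ _).app _ ≪≫ (Scheme.Modules.pullbackCongr hφ).app _ ≪≫
            ((Scheme.Modules.pullbackComp _ ι).app _).symm ≪≫
            (Scheme.Modules.pullback _).mapIso ((exists_pullback_tensorMod ι _ _).choose ≪≫
              PicGrp.tensorModIso (Iso.refl _) (pullback_tensorPow ι P m).some)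
        obtain ⟨h1, h2⟩ := ha m (hm.trans (le_max_left _ _))
        exact ⟨htr L h1, htr L' h2⟩
      obtain ⟨l, hl⟩ := Groth.Agent.S4367.result g ι (hgZ.trans hrange.ge)
      let j : C ⟶ (ι ≫ f).fiber s := pullback.lift l (C ↘ Spec (CommRingCat.of (S.residueField s)))
        (by rw [reassoc_of% hl]; exact hg)
      refine nt_iso _ ?_ (nt_pullback_proper (S.residueField s) j (pullback.lift_snd _ _ _) (hnt s hs hamp))
      exact (Scheme.Modules.pullbackComp j _).app _ ≪≫
        (Scheme.Modules.pullbackCongr (pullback.lift_fst _ _ _)).app _ ≪≫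
        (Scheme.Modules.pullbackComp l ι).app L ≪≫ (Scheme.Modules.pullbackCongr hl).app L
    · rw [isPreirreducible_iff_isClosed_union_isClosed] at hirr
      push Not at hirr
      obtain ⟨z₁, z₂, h1, h2, hsub, hn1, hn2⟩ := hirr
      have hlt : ∀ z : Set X, ∀ hz : IsClosed z, ¬ (Z : Set X) ⊆ z →
          (⟨(Z : Set X) ∩ z, Z.isClosed.inter hz⟩ : Closeds X) < Z := fun z hz hn =>
        lt_of_le_of_ne (fun x hx => hx.1) fun h => hn fun x hx => (h.ge hx).2
      obtain ⟨M₁, hM₁⟩ := ih _ (hlt z₁ h1 hn1)
      obtain ⟨M₂, hM₂⟩ := ih _ (hlt z₂ h2 hn2)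
      refine ⟨max M₁ M₂, fun s ha C _ _ _ g hg hgZ => ?_⟩
      rcases (isPreirreducible_iff_isClosed_union_isClosed.1 ((IrreducibleSpace.isIrreducible_univ C).image g
        g.continuous.continuousOn).2) z₁ z₂ h1 h2 (by rw [Set.image_univ]; exact hgZ.trans hsub) with h | h <;>
        rw [Set.image_univ] at h
      · exact hM₁ s (ha.mono f (le_max_left _ _)) C g hg (Set.subset_inter hgZ h)
      · exact hM₂ s (ha.mono f (le_max_right _ _)) C g hg (Set.subset_inter hgZ h)

/-- Finitely many twists detect numerical triviality on every fibre. -/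
theorem exists_bound (hHi : PicF.IsInvertible H) (hHH' : ClSub.IsInverseOf H H')
    (hL : PicF.IsInvertible L) (hLL' : ClSub.IsInverseOf L L') :
    ∃ M : ℕ, ∀ s, FibreAmp f H L L' M s →
      NT (S.residueField s) ((Scheme.Modules.pullback (f.fiberι s)).obj L) := by
  obtain ⟨M, hM⟩ := detected f hHi hHH' hL hLL' ⊤
  refine ⟨M, fun s ha => nt_of_curves _ (PicAux.isInvertible_pullback _ hL) fun z _ => ?_⟩
  have : IsIntegral (IntMult.ptIdeal z).subscheme := CohTwo.isIntegral_closure_subscheme rfl
  have h := hM s ha _ ((IntMult.ptIdeal z).subschemeι ≫ f.fiberι s)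
    (by rw [Category.assoc, show f.fiberι s ≫ f = _ from pullback.condition]; rfl) (fun x _ => trivial)
  exact nt_iso _ ((Scheme.Modules.pullbackComp _ _).app L).symm h

end Groth.Misc13.NumTriv.TauOpen
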